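import Mathlib.FieldTheory.Galois.Infinite
import Mathlib.FieldTheory.IsSepClosed
import Mathlib.FieldTheory.Minpoly.Finite
import Mathlib.RingTheory.TensorProduct.Maps
import Mathlib.RingTheory.TensorProduct.Finite
import Mathlib.LinearAlgebra.Dimension.Constructions
import Mathlib.Combinatorics.Pigeonhole
import Mathlib.FieldTheory.KummerExtension
import Mathlib.LinearAlgebra.Dimension.LinearMap

/-!
# Kummer towers under a finite base change (towards S16171)

`K ⊂ Ω` and `L ⊂ Ω'` separable closures, `L / K` finite, `K → L → Ω'`, `K → Ω → Ω'` compatible;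
`r ∈ K`, `τ ∈ L`, `τ ^ m = r ≠ 0`, `l` invertible.  An automorphism of `Ω'` over `L` which fixes
all `l`-power roots of `τ` restricts to one of `Ω` which fixes all `l`-power roots of `r`
(`restr_fix`); conversely, if `x ∈ Ω` is fixed by all the automorphisms of `Ω'` which fix the
`l`-power roots of `τ`, and `σ` is an automorphism of `Ω` over `K` which fixes the `l`-power roots
of `r`, then `σ ^ [L : K]!` fixes `x` (`pow_fix`).
-/

set_option autoImplicit false

namespace Groth.Agent.Neron.K86.KumFld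

open Polynomial Module
open scoped TensorProduct

section Root

variable {Ω Ω' : Type*} [Field Ω] [Field Ω'] [IsSepClosed Ω]

/-- An `N`-th root (`N` invertible) in `Ω'` of an element of the separably closed field `Ω` lies
in `Ω`. -/
theorem mem_range_of_pow (ι : Ω →+* Ω') {N : ℕ} (hN : (N : Ω) ≠ 0) {c : Ω} (hc : c ≠ 0) {y : Ω'}
    (hy : y ^ N = ι c) : ∃ y0 : Ω, ι y0 = y ∧ y0 ^ N = c := by
  have hN0 : 0 < N := Nat.pos_of_ne_zero fun h => hN (by rw [h, Nat.cast_zero])
  have hsep : (X ^ N - C c : Ω[X]).Separable := separable_X_pow_sub_C c hN hc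
  have hspl := IsSepClosed.splits_of_separable _ hsep
  have hne : (X ^ N - C c : Ω[X]) ≠ 0 := X_pow_sub_C_ne_zero hN0 c
  have hroot : ((X ^ N - C c : Ω[X]).map ι).IsRoot y := by
    simp [IsRoot.def, hy]
  obtain ⟨y0, hy0⟩ := hspl.mem_range_of_isRoot hne hroot
  refine ⟨y0, hy0, ι.injective ?_⟩
  rw [map_pow, hy0, hy]

end Root

section Orbit

/-- If the iterates of `x` under an injective map all lie in a finite set of at most `d` elements
then `σ^[d!]` fixes `x`. -/
theorem iterate_factorial {Ω : Type*} (f : Ω → Ω) (hf : Function.Injective f) (x : Ω)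
    (s : Finset Ω) (d : ℕ) (hs : s.card ≤ d) (hx : ∀ j, f^[j] x ∈ s) : f^[d.factorial] x = x := by
  classical
  obtain ⟨i, hi, j, hj, hij, he⟩ := Finset.exists_ne_map_eq_of_card_lt_of_maps_to
    (s := Finset.range (d + 1)) (t := s) (by simpa using Nat.lt_succ_of_le hs)
    (f := fun j => f^[j] x) (fun j _ => hx j)
  wlog hlt : i < j generalizing i j
  · exact this j hj i hi hij.symm he.symm (by omega)
  have h1 : f^[j - i] x = x := by
    have h2 : f^[i] (f^[j - i] x) = f^[i] x := by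
      rw [← Function.iterate_add_apply, show i + (j - i) = j by omega]
      exact he.symm
    exact hf.iterate i h2
  have h3 : Function.IsPeriodicPt f (j - i) x := h1
  have h4 : (j - i) ∣ d.factorial := Nat.dvd_factorial (by omega) (by
    have := Finset.mem_range.1 hj
    omega)
  exact h3.trans_dvd h4

end Orbit

variable {K Ω L Ω' : Type*} [Field K] [Field Ω] [Algebra K Ω] [Field L] [Algebra K L] [Field Ω']
  [Algebra L Ω'] [Algebra K Ω'] [IsScalarTower K L Ω'] [Algebra Ω Ω'] [IsScalarTower K Ω Ω']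

/-- The restriction to `Ω` of an automorphism of `Ω'` over `L`. -/
noncomputable def restr (K Ω : Type*) {L Ω' : Type*} [Field K] [Field Ω] [Algebra K Ω] [Field L]
    [Algebra K L] [Field Ω'] [Algebra L Ω'] [Algebra K Ω'] [IsScalarTower K L Ω'] [Algebra Ω Ω']
    [IsScalarTower K Ω Ω'] [IsSepClosure K Ω] (σ' : Ω' ≃ₐ[L] Ω') : Ω ≃ₐ[K] Ω :=
  haveI : IsGalois K Ω := IsSepClosure.isGalois
  (σ'.restrictScalars K).restrictNormal Ω

theorem algebraMap_restr [IsSepClosure K Ω] (σ' : Ω' ≃ₐ[L] Ω') (y : Ω) :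
    algebraMap Ω Ω' (restr K Ω σ' y) = σ' (algebraMap Ω Ω' y) := by
  have : IsGalois K Ω := IsSepClosure.isGalois
  exact AlgEquiv.restrictNormal_commutes (σ'.restrictScalars K) Ω y

/-- The restriction fixes all `l`-power roots of `r` as soon as `σ'` fixes those of `τ`. -/
theorem restr_fix [IsSepClosed Ω'] (l m : ℕ) (hl : (l : K) ≠ 0) {r : K} {τ : L}
    (hτ : τ ^ m = algebraMap K L r) (hr : r ≠ 0) (hm : 0 < m) (σ' : Ω' ≃ₐ[L] Ω')
    (hσ' : ∀ (k : ℕ) (z : Ω'), z ^ (l ^ k) = algebraMap L Ω' τ → σ' z = z) (σ : Ω ≃ₐ[K] Ω)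
    (hσ : ∀ y, algebraMap Ω Ω' (σ y) = σ' (algebraMap Ω Ω' y)) (k : ℕ) (y : Ω)
    (hy : y ^ (l ^ k) = algebraMap K Ω r) : σ y = y := by
  have hlk : ((l ^ k : ℕ) : Ω') ≠ 0 := by
    rw [Nat.cast_pow]
    refine pow_ne_zero _ ?_
    rw [← map_natCast (algebraMap K Ω')]
    exact (_root_.map_ne_zero _).2 hl
  have : NeZero ((l ^ k : ℕ) : Ω') := ⟨hlk⟩
  obtain ⟨z, hz⟩ := IsSepClosed.exists_pow_nat_eq (algebraMap L Ω' τ) (l ^ k)
  have hτ0 : τ ≠ 0 := by
    intro h
    rw [h, zero_pow hm.ne'] at hτ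
    exact (_root_.map_ne_zero (algebraMap K L)).2 hr hτ.symm
  have hlk0 : l ^ k ≠ 0 := fun h => hlk (by rw [h, Nat.cast_zero])
  have hz0 : z ≠ 0 := by
    intro h
    rw [h, zero_pow hlk0] at hz
    exact (_root_.map_ne_zero (algebraMap L Ω')).2 hτ0 hz.symm
  set y' := algebraMap Ω Ω' y with hy'
  have hyz : (y' / z ^ m) ^ (l ^ k) = 1 := by
    rw [div_pow, ← pow_mul, mul_comm m, pow_mul, hz, ← map_pow (algebraMap L Ω'), hτ, hy',
      ← map_pow (algebraMap Ω Ω'), hy, ← IsScalarTower.algebraMap_apply,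
      ← IsScalarTower.algebraMap_apply]
    exact div_self ((_root_.map_ne_zero _).2 hr)
  have h1 : σ' z = z := hσ' k z hz
  have h2 : σ' (y' / z ^ m * z) = y' / z ^ m * z := hσ' k _ (by rw [mul_pow, hyz, one_mul, hz])
  have h3 : σ' (y' / z ^ m) = y' / z ^ m := by
    rw [map_mul, h1] at h2
    exact mul_right_cancel₀ hz0 h2
  have h4 : σ' y' = y' := by
    have : y' = y' / z ^ m * z ^ m := (div_mul_cancel₀ _ (pow_ne_zero _ hz0)).symm
    rw [this, map_mul, map_pow, h1, h3]
  exact (algebraMap Ω Ω').injective (by rw [hσ, ← hy', h4])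

/-- The compositum over `K` of an intermediate field of `Ω` and `L`, inside `Ω'`. -/
noncomputable def comp (F : IntermediateField K Ω) (L Ω' : Type*) [Field L] [Algebra K L]
    [Field Ω'] [Algebra L Ω'] [Algebra K Ω'] [IsScalarTower K L Ω'] [Algebra Ω Ω']
    [IsScalarTower K Ω Ω'] : Subalgebra F Ω' :=
  (Algebra.TensorProduct.productLeftAlgHom (Algebra.ofId F Ω')
    (IsScalarTower.toAlgHom K L Ω')).range

theorem mem_comp_left (F : IntermediateField K Ω) (a : F) :
    algebraMap Ω Ω' (a : Ω) ∈ comp F L Ω' := by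
  refine ⟨a ⊗ₜ 1, ?_⟩
  change Algebra.ofId F Ω' a * IsScalarTower.toAlgHom K L Ω' 1 = _
  rw [map_one, mul_one]
  rfl

theorem mem_comp_right (F : IntermediateField K Ω) (b : L) :
    algebraMap L Ω' b ∈ comp F L Ω' := by
  refine ⟨1 ⊗ₜ b, ?_⟩
  simp

instance finite_comp [Module.Finite K L] (F : IntermediateField K Ω) :
    Module.Finite F (comp F L Ω') :=
  Module.Finite.range (Algebra.TensorProduct.productLeftAlgHom (Algebra.ofId F Ω')
    (IsScalarTower.toAlgHom K L Ω')).toLinearMap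

theorem finrank_comp_le [Module.Finite K L] (F : IntermediateField K Ω) :
    finrank F (comp F L Ω') ≤ finrank K L := by
  have h := LinearMap.finrank_range_le (Algebra.TensorProduct.productLeftAlgHom
    (Algebra.ofId F Ω') (IsScalarTower.toAlgHom K L Ω')).toLinearMap
  rw [Module.finrank_baseChange] at h
  exact h

theorem inv_mem_comp [Module.Finite K L] (F : IntermediateField K Ω) {x : Ω'}
    (hx : x ∈ comp F L Ω') : x⁻¹ ∈ comp F L Ω' := by
  have h1 : IsAlgebraic F (⟨x, hx⟩ : comp F L Ω') := Algebra.IsAlgebraic.isAlgebraic _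
  have h2 : IsAlgebraic F x := by
    obtain ⟨p, hp, hpx⟩ := h1
    refine ⟨p, hp, ?_⟩
    have := congrArg (comp F L Ω').val hpx
    rwa [map_zero, ← Polynomial.aeval_algHom_apply] at this
  exact Subalgebra.inv_mem_of_algebraic (A := comp F L Ω') (x := ⟨x, hx⟩) h2

theorem zpow_mem_comp [Module.Finite K L] (F : IntermediateField K Ω) {x : Ω'}
    (hx : x ∈ comp F L Ω') (n : ℤ) : x ^ n ∈ comp F L Ω' := by
  obtain ⟨n, rfl | rfl⟩ := n.eq_nat_or_neg
  · rw [zpow_natCast]
    exact pow_mem hx n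
  · rw [zpow_neg, zpow_natCast]
    exact inv_mem_comp F (pow_mem hx n)

/-- The degree over `F` of an element of `Ω` lying in the compositum of `F` and `L` is at most
`[L : K]`. -/
theorem natDegree_le [Module.Finite K L] (F : IntermediateField K Ω) {x : Ω}
    (hx : algebraMap Ω Ω' x ∈ comp F L Ω') :
    (minpoly F x).natDegree ≤ finrank K L := by
  have h1 : minpoly F (algebraMap Ω Ω' x) = minpoly F x :=
    minpoly.algebraMap_eq (algebraMap Ω Ω').injective x
  have h2 : minpoly F (algebraMap Ω Ω' x) = minpoly F (⟨_, hx⟩ : comp F L Ω') :=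
    minpoly.algebraMap_eq (B := comp F L Ω') (B' := Ω') Subtype.coe_injective ⟨_, hx⟩
  rw [← h1, h2]
  exact (minpoly.natDegree_le _).trans (finrank_comp_le F)

/-- An automorphism of `Ω` over `F` moves such an element through at most `[L : K]` conjugates. -/
theorem iterate_fix [Module.Finite K L] (F : IntermediateField K Ω) {x : Ω}
    (hx : algebraMap Ω Ω' x ∈ comp F L Ω') (σ : Ω ≃ₐ[K] Ω) (hσ : ∀ a ∈ F, σ a = a)
    (hint : IsIntegral F x) : (σ ^ (finrank K L).factorial) x = x := by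
  classical
  let σF : Ω →ₐ[F] Ω := { σ.toRingEquiv.toRingHom with commutes' := fun a => hσ _ a.2 }
  have hroot : ∀ j, (⇑σ)^[j] x ∈ ((minpoly F x).aroots Ω).toFinset := by
    intro j
    rw [Multiset.mem_toFinset, Polynomial.mem_aroots]
    refine ⟨minpoly.ne_zero hint, ?_⟩
    induction j with
    | zero => exact minpoly.aeval F x
    | succ j ih =>
      rw [Function.iterate_succ_apply']
      have := congrArg σF ih
      rw [map_zero, ← Polynomial.aeval_algHom_apply] at this
      exact this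
  have h := iterate_factorial (⇑σ) σ.injective x ((minpoly F x).aroots Ω).toFinset (finrank K L)
    ((Multiset.toFinset_card_le _).trans (((Polynomial.card_roots' _).trans
      (by rw [Polynomial.natDegree_map])).trans (natDegree_le F hx))) hroot
  rw [← AlgEquiv.coe_pow] at h
  exact h

/-- The field generated over `K` by all the `l`-power roots of `r`. -/
noncomputable def kum (K Ω : Type*) [Field K] [Field Ω] [Algebra K Ω] (l : ℕ) (r : K) :
    IntermediateField K Ω :=
  IntermediateField.adjoin K {y : Ω | ∃ k : ℕ, y ^ (l ^ k) = algebraMap K Ω r}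

/-- The `l`-power roots of `τ` lie in the compositum of `L` with the field of `l`-power roots
of `r`. -/
theorem root_mem_comp [Module.Finite K L] [IsSepClosed Ω] (l m : ℕ) (hlp : l.Prime)
    (hl : (l : K) ≠ 0) {r : K} {τ : L} (hτ : τ ^ m = algebraMap K L r) (hr : r ≠ 0) (hm : 0 < m)
    (k : ℕ) (z : Ω') (hz : z ^ (l ^ k) = algebraMap L Ω' τ) :
    z ∈ comp (kum K Ω l r) L Ω' := by
  have hτ0 : τ ≠ 0 := by
    intro h
    rw [h, zero_pow hm.ne'] at hτ
    exact (_root_.map_ne_zero (algebraMap K L)).2 hr hτ.symm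
  have hlk0 : l ^ k ≠ 0 := pow_ne_zero _ hlp.ne_zero
  have hz0 : z ≠ 0 := by
    intro h
    rw [h, zero_pow hlk0] at hz
    exact (_root_.map_ne_zero (algebraMap L Ω')).2 hτ0 hz.symm
  obtain ⟨a, m', hlm', hmm'⟩ := Nat.exists_eq_pow_mul_and_not_dvd hm.ne' l hlp.ne_one
  have hy : (z ^ m') ^ (l ^ (k + a)) = algebraMap Ω Ω' (algebraMap K Ω r) := by
    rw [← pow_mul, show m' * l ^ (k + a) = l ^ k * m by rw [hmm']; ring, pow_mul, hz, ← map_pow, hτ,
      ← IsScalarTower.algebraMap_apply, ← IsScalarTower.algebraMap_apply]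
  have hN : ((l ^ (k + a) : ℕ) : Ω) ≠ 0 := by
    rw [Nat.cast_pow]
    refine pow_ne_zero _ ?_
    rw [← map_natCast (algebraMap K Ω)]
    exact (_root_.map_ne_zero _).2 hl
  obtain ⟨y0, hy0, hy1⟩ := mem_range_of_pow (algebraMap Ω Ω') hN
    ((_root_.map_ne_zero (algebraMap K Ω)).2 hr) hy
  have hy2 : y0 ∈ kum K Ω l r := IntermediateField.subset_adjoin _ _ ⟨_, hy1⟩
  have hy3 : z ^ m' ∈ comp (kum K Ω l r) L Ω' := by
    rw [← hy0]
    exact mem_comp_left _ (⟨y0, hy2⟩ : kum K Ω l r)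
  have hcop : Nat.Coprime m' (l ^ k) :=
    Nat.Coprime.pow_right _ ((Nat.Prime.coprime_iff_not_dvd hlp).2 hlm').symm
  have hbez := Nat.gcd_eq_gcd_ab m' (l ^ k)
  rw [Nat.Coprime.gcd_eq_one hcop] at hbez
  have hz1 : z = (z ^ m') ^ (m'.gcdA (l ^ k)) * (z ^ (l ^ k)) ^ (m'.gcdB (l ^ k)) := by
    rw [← zpow_natCast z m', ← zpow_natCast z (l ^ k), ← zpow_mul, ← zpow_mul,
      ← zpow_add₀ hz0, ← hbez, Nat.cast_one, zpow_one]
  rw [hz1, hz]
  exact mul_mem (zpow_mem_comp _ hy3 _) (zpow_mem_comp _ (mem_comp_right _ _) _)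

theorem adjoin_le_comp [Module.Finite K L] [IsSepClosed Ω] (l m : ℕ) (hlp : l.Prime)
    (hl : (l : K) ≠ 0) {r : K} {τ : L} (hτ : τ ^ m = algebraMap K L r) (hr : r ≠ 0) (hm : 0 < m)
    {x : Ω'} (hx : x ∈ kum L Ω' l τ) : x ∈ comp (kum K Ω l r) L Ω' := by
  induction hx using IntermediateField.adjoin_induction with
  | mem x hx =>
    obtain ⟨k, hk⟩ := hx
    exact root_mem_comp l m hlp hl hτ hr hm k x hk
  | algebraMap x => exact mem_comp_right _ x
  | add x y _ _ hx hy => exact add_mem hx hy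
  | inv x _ hx => exact inv_mem_comp _ hx
  | mul x y _ _ hx hy => exact mul_mem hx hy

/-- **Main statement.** -/
theorem pow_fix [Module.Finite K L] [IsSepClosure K Ω] [IsSepClosure L Ω'] (l m : ℕ)
    (hlp : l.Prime) (hl : (l : K) ≠ 0) {r : K} {τ : L} (hτ : τ ^ m = algebraMap K L r)
    (hr : r ≠ 0) (hm : 0 < m) (σ : Ω ≃ₐ[K] Ω)
    (hσ : ∀ (k : ℕ) (y : Ω), y ^ (l ^ k) = algebraMap K Ω r → σ y = y) (x : Ω)
    (hx : ∀ σ' : Ω' ≃ₐ[L] Ω',
      (∀ (k : ℕ) (z : Ω'), z ^ (l ^ k) = algebraMap L Ω' τ → σ' z = z) →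
        σ' (algebraMap Ω Ω' x) = algebraMap Ω Ω' x) :
    (σ ^ (finrank K L).factorial) x = x := by
  have : IsSepClosed Ω := IsSepClosure.sep_closed K
  have : IsSepClosed Ω' := IsSepClosure.sep_closed L
  have : IsGalois K Ω := IsSepClosure.isGalois
  have : IsGalois L Ω' := IsSepClosure.isGalois
  have h1 : algebraMap Ω Ω' x ∈ kum L Ω' l τ := by
    rw [← InfiniteGalois.fixedField_fixingSubgroup (kum L Ω' l τ)]
    rw [IntermediateField.mem_fixedField_iff]
    intro σ' hσ'
    refine hx σ' fun k z hz => ?_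
    rw [IntermediateField.mem_fixingSubgroup_iff] at hσ'
    exact hσ' z (IntermediateField.subset_adjoin _ _ ⟨k, hz⟩)
  have h2 := adjoin_le_comp (K := K) (Ω := Ω) l m hlp hl hτ hr hm h1
  refine iterate_fix (kum K Ω l r) h2 σ (fun a ha => ?_) ?_
  · induction ha using IntermediateField.adjoin_induction with
    | mem a ha =>
      obtain ⟨k, hk⟩ := ha
      exact hσ k a hk
    | algebraMap a => exact σ.commutes a
    | add a b _ _ ha hb => rw [map_add, ha, hb]
    | inv a _ ha => rw [map_inv₀, ha]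
    | mul a b _ _ ha hb => rw [map_mul, ha, hb]
  · exact (Algebra.IsIntegral.isIntegral (R := K) x).tower_top

end Groth.Agent.Neron.K86.KumFld
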