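import Groth.Agent.Neron.K86.PtsRes
import Groth.Agent.Neron.K86.KumFld

/-!
# Comparison of the condition `⋆(l)` over `K` and over a finite Kummer extension `L`

Everything except the ring theory of `B = R[τ₁, …, τₙ]` and the Galois theorem of level two
(hypothesis `lev`).
-/

set_option autoImplicit false
universe u

open CategoryTheory CategoryTheory.Limits AlgebraicGeometry MonObj
open MonoidalCategory CartesianMonoidalCategory
open Groth.Agent.Sga7.H729.Dict Groth.Agent.Sga67.TorsionLift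
open Groth.Agent.Neron.K86.PtsRes

namespace Groth.Agent.Neron.K86.KumCore

section Post

/-- Postcomposition with an isomorphism of groups, on points. -/
noncomputable def post {S : Scheme.{u}} {X Y : Over S} [GrpObj X] [GrpObj Y] (e : X ≅ Y)
    (he : IsMonHom e.hom) (T : Over S) : (T ⟶ X) ≃* (T ⟶ Y) where
  toFun x := x ≫ e.hom
  invFun x := x ≫ e.inv
  left_inv x := by simp
  right_inv x := by simp
  map_mul' x y := MonObj.mul_comp x y e.hom

variable {K Ω : Type u} [Field K] [Field Ω] [Algebra K Ω]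

lemma post_galAct {X Y : Over (Spec (CommRingCat.of K))} [GrpObj X] [GrpObj Y] (e : X ≅ Y)
    (he : IsMonHom e.hom) (σ : Ω ≃ₐ[K] Ω) (x : SGA7.Pts Ω X) :
    post e he (SGA7.pt Ω) (SGA7.galAct σ x) = SGA7.galAct σ (post e he (SGA7.pt Ω) x) := by
  change (SGA7.specAut σ ≫ x) ≫ e.hom = SGA7.specAut σ ≫ (x ≫ e.hom)
  exact Category.assoc _ _ _

lemma post_symm_galAct {X Y : Over (Spec (CommRingCat.of K))} [GrpObj X] [GrpObj Y] (e : X ≅ Y)
    (he : IsMonHom e.hom) (σ : Ω ≃ₐ[K] Ω) (y : SGA7.Pts Ω Y) :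
    (post e he (SGA7.pt Ω)).symm (SGA7.galAct σ y) =
      SGA7.galAct σ ((post e he (SGA7.pt Ω)).symm y) := by
  change (SGA7.specAut σ ≫ y) ≫ e.inv = SGA7.specAut σ ≫ (y ≫ e.inv)
  exact Category.assoc _ _ _

/-- Fixed elements of the Tate module. -/
theorem fix_iff {A : Over (Spec (CommRingCat.of K))} [GrpObj A] [IsCommMonObj A] (l : ℕ)
    (ρ : (Ω ≃ₐ[K] Ω) → AbDual.TateMod A l (SGA7.pt Ω) → AbDual.TateMod A l (SGA7.pt Ω))
    (hρ : ∀ (τ : Ω ≃ₐ[K] Ω) (z : AbDual.TateMod A l (SGA7.pt Ω)) (k : ℕ),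
      (AbDual.TateMod.component A l (SGA7.pt Ω) k (ρ τ z)).toMul =
        SGA7.galAct τ (AbDual.TateMod.component A l (SGA7.pt Ω) k z).toMul)
    {M : Type*} (E : SGA7.Pts Ω A → M) (hE : Function.Injective E) (s : (Ω ≃ₐ[K] Ω) → M → M)
    (hs : ∀ σ x, E (SGA7.galAct σ x) = s σ (E x)) (σ : Ω ≃ₐ[K] Ω)
    (w : AbDual.TateMod A l (SGA7.pt Ω)) :
    ρ σ w = w ↔ ∀ k, s σ (E (AbDual.TateMod.component A l (SGA7.pt Ω) k w).toMul) =
      E (AbDual.TateMod.component A l (SGA7.pt Ω) k w).toMul := by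
  constructor
  · intro h k
    rw [← hs, ← hρ, h]
  · intro h
    refine AbDual.TateMod.ext fun k => ?_
    have h1 := h k
    rw [← hs, ← hρ] at h1
    exact congrArg Additive.ofMul (hE h1)

end Post

section Core

variable {R K Ω L Ω' : Type u} [CommRing R] [Field K] [Algebra R K] [Field Ω] [Algebra K Ω]
  [Algebra R Ω] [IsScalarTower R K Ω] [Field L] [Algebra K L] [Field Ω'] [Algebra L Ω']
  [Algebra R L] [Algebra R Ω'] [IsScalarTower R L Ω'] [Algebra K Ω'] [IsScalarTower K L Ω']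
  [IsScalarTower R K Ω'] [Algebra Ω Ω'] [IsScalarTower K Ω Ω'] [IsSepClosure K Ω]
  [IsSepClosure L Ω'] [Module.Finite K L]
  (N : Over (Spec (CommRingCat.of R))) [GrpObj N] [IsCommMonObj N]

variable (R K Ω Ω') in
/-- The embedding of `Ω` into `Ω'`, over `R`. -/
noncomputable def emb : Ω →ₐ[R] Ω' := (IsScalarTower.toAlgHom K Ω Ω').restrictScalars R

omit [IsSepClosure K Ω] in
lemma emb_apply (x : Ω) : emb R K Ω Ω' x = algebraMap Ω Ω' x := rfl

omit [IsCommMonObj N] [Module.Finite K L] in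
/-- From fixed by the small Galois group over `K` to fixed by the one over `L`. -/
theorem fix_forward (l m : ℕ) (hl : (l : K) ≠ 0) {r : K} {τ : L} (hτ : τ ^ m = algebraMap K L r)
    (hr : r ≠ 0) (hm : 0 < m) (y : sp R Ω ⟶ N)
    (hy : ∀ σ : Ω ≃ₐ[K] Ω, (∀ (k : ℕ) (y : Ω), y ^ (l ^ k) = algebraMap K Ω r → σ y = y) →
      res N (gal R σ) y = y)
    (σ' : Ω' ≃ₐ[L] Ω')
    (hσ' : ∀ (k : ℕ) (z : Ω'), z ^ (l ^ k) = algebraMap L Ω' τ → σ' z = z) :
    res N (gal R σ') (res N (emb R K Ω Ω') y) = res N (emb R K Ω Ω') y := by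
  have : IsSepClosed Ω' := IsSepClosure.sep_closed L
  have h1 := KumFld.restr_fix l m hl hτ hr hm σ' hσ' (KumFld.restr K Ω σ')
    (KumFld.algebraMap_restr σ')
  have h2 : (gal R σ').comp (emb R K Ω Ω') = (emb R K Ω Ω').comp (gal R (KumFld.restr K Ω σ')) := by
    ext x
    exact (KumFld.algebraMap_restr σ' x).symm
  rw [← res_comp, h2, res_comp, hy _ h1]

/-- The converse, for compatible sequences of `l`-power torsion points, thanks to level two. -/
theorem fix_backward (l m : ℕ) (hlp : l.Prime) (hl : (l : K) ≠ 0) {r : K} {τ : L}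
    (hτ : τ ^ m = algebraMap K L r) (hr : r ≠ 0) (hm : 0 < m) (y : ℕ → (sp R Ω ⟶ N))
    (hy1 : ∀ k, y k ^ (l ^ k) = 1) (hy2 : ∀ k, y (k + 1) ^ l = y k)
    (lev : ∀ (σ : Ω ≃ₐ[K] Ω) (k : ℕ), res N (gal R σ) (res N (gal R σ) (y k) * (y k)⁻¹) =
      res N (gal R σ) (y k) * (y k)⁻¹)
    (hy : ∀ (σ' : Ω' ≃ₐ[L] Ω'),
      (∀ (k : ℕ) (z : Ω'), z ^ (l ^ k) = algebraMap L Ω' τ → σ' z = z) → ∀ k,
      res N (gal R σ') (res N (emb R K Ω Ω') (y k)) = res N (emb R K Ω Ω') (y k))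
    (σ : Ω ≃ₐ[K] Ω) (hσ : ∀ (k : ℕ) (y : Ω), y ^ (l ^ k) = algebraMap K Ω r → σ y = y) (k : ℕ) :
    res N (gal R σ) (y k) = y k := by
  set M := (Module.finrank K L).factorial with hM
  have h1 : ∀ k, res N (gal R (σ ^ M)) (y k) = y k := by
    intro k
    obtain ⟨S, hS1, hS2⟩ := exists_set N (y k) (emb R K Ω Ω')
    rw [hS1]
    intro x hx
    refine KumFld.pow_fix (Ω' := Ω') l m hlp hl hτ hr hm σ hσ x fun σ' hσ' => ?_
    exact (hS2 _).1 (hy σ' hσ' k) x hx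
  have h2 : ∀ (j : ℕ) (z : sp R Ω ⟶ N), res N (gal R (σ ^ j)) z = (res N (gal R σ))^[j] z := by
    intro j
    induction j with
    | zero =>
      intro z
      have h3 : gal R (σ ^ 0) = AlgHom.id R Ω := rfl
      rw [h3, res_apply]
      have h4 : spMap (AlgHom.id R Ω) = 𝟙 (sp R Ω) := by
        ext1
        exact Spec.map_id _
      rw [h4, Category.id_comp]
      rfl
    | succ j ih =>
      intro z
      rw [Function.iterate_succ_apply', ← ih, ← res_comp, pow_succ']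
      rfl
  have h3 : ∀ k, (res N (gal R σ) (y k) * (y k)⁻¹) ^ M = 1 := by
    intro k
    have h4 := iterate_level_two (res N (gal R σ)) (y k) (lev σ k) M
    rw [← h2, h1] at h4
    exact (mul_eq_right.1 h4.symm)
  have h5 := eq_one_of_pow hlp (fun k => res N (gal R σ) (y k) * (y k)⁻¹)
    (fun k => by rw [mul_pow, inv_pow, ← map_pow, hy1, map_one, inv_one, _root_.mul_one])
    (fun k => by rw [mul_pow, inv_pow, ← map_pow, hy2]) (Nat.factorial_pos _) h3 k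
  exact mul_inv_eq_one.1 h5

end Core

section Star

variable {R K Ω B L Ω' : Type u} [CommRing R] [Field K] [Algebra R K] [Field Ω] [Algebra K Ω]
  [Algebra R Ω] [IsScalarTower R K Ω] [CommRing B] [Algebra R B] [Field L] [Algebra B L]
  [Algebra K L] [Field Ω'] [Algebra L Ω'] [Algebra B Ω'] [IsScalarTower B L Ω']
  [Algebra R L] [Algebra R Ω'] [IsScalarTower R B Ω'] [IsScalarTower R L Ω'] [Algebra K Ω'] [IsScalarTower K L Ω']
  [IsScalarTower R K Ω'] [Algebra Ω Ω'] [IsScalarTower K Ω Ω'] [IsSepClosure K Ω]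
  [IsSepClosure L Ω'] [Module.Finite K L]
  (N : Over (Spec (CommRingCat.of R))) [GrpObj N] [IsCommMonObj N] [LocallyOfFiniteType N.hom]

include K Ω B L Ω' in
/-- The comparison of the two conditions `⋆`. -/
theorem star {n : ℕ} (r : Fin n → K) (τ : Fin n → L) (mdeg : Fin n → ℕ) (hmdeg : ∀ i, 0 < mdeg i)
    (hr : ∀ i, r i ≠ 0) (hτ : ∀ i, τ i ^ mdeg i = algebraMap K L (r i))
    (A : Over (Spec (CommRingCat.of K))) [GrpObj A] [IsCommMonObj A]
    (e : Red.bc (Spec.map (CommRingCat.ofHom (algebraMap R K))) N ≅ A) (he : IsMonHom e.hom)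
    (l : ℕ) (hlp : l.Prime) (hl : (l : K) ≠ 0)
    (lev : ∀ (σ : Ω ≃ₐ[K] Ω) (k : ℕ)
      (x : SGA7.Pts Ω (Red.bc (Spec.map (CommRingCat.ofHom (algebraMap R K))) N)),
      x ^ (l ^ k) = 1 → SGA7.dev σ (SGA7.dev σ x) = 1)
    (ρ : (Ω ≃ₐ[K] Ω) → AbDual.TateMod A l (SGA7.pt Ω) → AbDual.TateMod A l (SGA7.pt Ω))
    (hρ : ∀ (τ : Ω ≃ₐ[K] Ω) (z : AbDual.TateMod A l (SGA7.pt Ω)) (k : ℕ),
      (AbDual.TateMod.component A l (SGA7.pt Ω) k (ρ τ z)).toMul =
        SGA7.galAct τ (AbDual.TateMod.component A l (SGA7.pt Ω) k z).toMul)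
    (A' : Over (Spec (CommRingCat.of L))) [GrpObj A'] [IsCommMonObj A']
    (e' : Red.bc (Spec.map (CommRingCat.ofHom (algebraMap B L)))
      (Red.bc (Spec.map (CommRingCat.ofHom (algebraMap R B))) N) ≅ A') (he' : IsMonHom e'.hom)
    (ρ' : (Ω' ≃ₐ[L] Ω') → AbDual.TateMod A' l (SGA7.pt Ω') → AbDual.TateMod A' l (SGA7.pt Ω'))
    (hρ' : ∀ (τ' : Ω' ≃ₐ[L] Ω') (z : AbDual.TateMod A' l (SGA7.pt Ω')) (k : ℕ),
      (AbDual.TateMod.component A' l (SGA7.pt Ω') k (ρ' τ' z)).toMul =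
        SGA7.galAct τ' (AbDual.TateMod.component A' l (SGA7.pt Ω') k z).toMul) :
    (n = 0 ∨ ∀ z : AbDual.TateMod A l (SGA7.pt Ω), ∃ w : Fin n → AbDual.TateMod A l (SGA7.pt Ω),
        (∀ (i : Fin n) (σ : Ω ≃ₐ[K] Ω),
          (∀ (k : ℕ) (y : Ω), y ^ (l ^ k) = algebraMap K Ω (r i) → σ y = y) →
            ρ σ (w i) = w i) ∧
        ∑ i, w i = z) ↔
    (n = 0 ∨ ∀ z : AbDual.TateMod A' l (SGA7.pt Ω'), ∃ w : Fin n → AbDual.TateMod A' l (SGA7.pt Ω'),
        (∀ (i : Fin n) (σ : Ω' ≃ₐ[L] Ω'),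
          (∀ (k : ℕ) (y : Ω'), y ^ (l ^ k) = algebraMap L Ω' (τ i) → σ y = y) →
            ρ' σ (w i) = w i) ∧
        ∑ i, w i = z) := by
  have iΩ : IsSepClosed Ω := IsSepClosure.sep_closed K
  -- the dictionaries
  let E : SGA7.Pts Ω A ≃* (sp R Ω ⟶ N) := (post e he (SGA7.pt Ω)).symm.trans (toSp R K Ω N)
  let E' : SGA7.Pts Ω' A' ≃* (sp R Ω' ⟶ N) :=
    (post e' he' (SGA7.pt Ω')).symm.trans (EF R B L Ω' N)
  have hE : ∀ (σ : Ω ≃ₐ[K] Ω) x, E (SGA7.galAct σ x) = res N (gal R σ) (E x) := by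
    intro σ x
    change toSp R K Ω N ((post e he (SGA7.pt Ω)).symm (SGA7.galAct σ x)) = _
    rw [post_symm_galAct, toSp_galAct]
    rfl
  have hE' : ∀ (σ : Ω' ≃ₐ[L] Ω') x, E' (SGA7.galAct σ x) = res N (gal R σ) (E' x) := by
    intro σ x
    change EF R B L Ω' N ((post e' he' (SGA7.pt Ω')).symm (SGA7.galAct σ x)) = _
    rw [post_symm_galAct, EF_galAct]
    rfl
  let g : SGA7.Pts Ω A →* SGA7.Pts Ω' A' :=
    E'.symm.toMonoidHom.comp ((res N (emb R K Ω Ω')).comp E.toMonoidHom)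
  have hg : ∀ x, E' (g x) = res N (emb R K Ω Ω') (E x) := fun x => E'.apply_symm_apply _
  have hginj : Function.Injective g := by
    intro x y hxy
    have h1 := congrArg E' hxy
    rw [hg, hg] at h1
    exact E.injective (res_injective N _ h1)
  have hgsurj : ∀ (k : ℕ) (y : SGA7.Pts Ω' A'), y ^ (l ^ k) = 1 → ∃ x, g x = y := by
    intro k y hy
    obtain ⟨w, hw⟩ := exists_tors (K := K) (Ω := Ω) N (IsScalarTower.toAlgHom K Ω Ω') (l ^ k)
      (by rw [Nat.cast_pow]; exact pow_ne_zero _ hl) (E' y) (by rw [← map_pow, hy, map_one])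
    refine ⟨E.symm w, E'.injective ?_⟩
    rw [hg, E.apply_symm_apply]
    exact hw
  let φ : AbDual.TateMod A l (SGA7.pt Ω) ≃+ AbDual.TateMod A' l (SGA7.pt Ω') :=
    AddEquiv.ofBijective (tateHom l g) (tateHom_bijective l g hginj hgsurj)
  have hφ : ∀ w k, E' (AbDual.TateMod.component A' l (SGA7.pt Ω') k (φ w)).toMul =
      res N (emb R K Ω Ω') (E (AbDual.TateMod.component A l (SGA7.pt Ω) k w).toMul) :=
    fun w k => hg _
  refine star_iff φ
    (fun i w => ∀ σ : Ω ≃ₐ[K] Ω,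
      (∀ (k : ℕ) (y : Ω), y ^ (l ^ k) = algebraMap K Ω (r i) → σ y = y) → ρ σ w = w)
    (fun i w => ∀ σ : Ω' ≃ₐ[L] Ω',
      (∀ (k : ℕ) (y : Ω'), y ^ (l ^ k) = algebraMap L Ω' (τ i) → σ y = y) → ρ' σ w = w) ?_
  intro i w
  constructor
  · intro h σ' hσ'
    rw [fix_iff l ρ' hρ' E' E'.injective (fun σ => res N (gal R σ)) hE']
    intro k
    rw [hφ]
    refine fix_forward N l (mdeg i) hl (hτ i) (hr i) (hmdeg i) _ (fun σ hσ => ?_) σ' hσ'
    exact (fix_iff l ρ hρ E E.injective (fun σ => res N (gal R σ)) hE σ w).1 (h σ hσ) k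
  · intro h σ hσ
    rw [fix_iff l ρ hρ E E.injective (fun σ => res N (gal R σ)) hE]
    refine fix_backward (Ω' := Ω') N l (mdeg i) hlp hl (hτ i) (hr i) (hmdeg i)
      (fun k => E (AbDual.TateMod.component A l (SGA7.pt Ω) k w).toMul) (fun k => ?_) (fun k => ?_)
      (fun σ k => ?_) (fun σ' hσ' k => ?_) σ hσ
    · rw [← map_pow]
      have h1 : (AbDual.TateMod.component A l (SGA7.pt Ω) k w).toMul ^ (l ^ k) = 1 :=
        AbDual.TateMod.component_mem w k
      rw [h1, map_one]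
    · rw [← map_pow]
      exact congrArg E (w.compat k)
    · have h1 : (AbDual.TateMod.component A l (SGA7.pt Ω) k w).toMul ^ (l ^ k) = 1 :=
        AbDual.TateMod.component_mem w k
      have h2 := lev σ k ((post e he (SGA7.pt Ω)).symm
        (AbDual.TateMod.component A l (SGA7.pt Ω) k w).toMul) (by rw [← map_pow, h1, map_one])
      have h3 := congrArg (toSp R K Ω N) h2
      rw [toSp_dev, toSp_dev, map_one, mul_inv_eq_one] at h3
      exact h3
    · have h1 := (fix_iff l ρ' hρ' E' E'.injective (fun σ => res N (gal R σ)) hE' σ' (φ w)).1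
        (h σ' hσ') k
      rwa [hφ] at h1

end Star

end Groth.Agent.Neron.K86.KumCore
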