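import Mathlib.Algebra.MvPolynomial.CommRing
import Mathlib.RingTheory.Localization.FractionRing
import Mathlib.FieldTheory.IsAlgClosed.AlgebraicClosure
import Mathlib.FieldTheory.IntermediateField.Adjoin.Algebra
import Mathlib.RingTheory.Ideal.Cotangent

/-!
# The ring `B = R[τ₁, …, τₙ] = R[X₁, …, Xₙ] / (Xᵢ ^ mᵢ - rᵢ)` and its fraction field
-/

set_option autoImplicit false

namespace Groth.Agent.Neron.K86.KumRing

open MvPolynomial

universe u

variable {R B : Type u} [CommRing R] [IsDomain R] [CommRing B] [Algebra R B] {n : ℕ} {r : Fin n → R}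
  {mdeg : Fin n → ℕ} {τ : Fin n → B}

omit [IsDomain R] in
theorem pow_eq (hτker : RingHom.ker (aeval τ : MvPolynomial (Fin n) R →ₐ[R] B) =
      Ideal.span (Set.range fun i => X i ^ mdeg i - C (r i))) (i : Fin n) :
    τ i ^ mdeg i = algebraMap R B (r i) := by
  have h : (X i ^ mdeg i - C (r i) : MvPolynomial (Fin n) R) ∈
      RingHom.ker (aeval τ : MvPolynomial (Fin n) R →ₐ[R] B) := by
    rw [hτker]
    exact Ideal.subset_span ⟨i, rfl⟩
  rw [RingHom.mem_ker, map_sub, map_pow, aeval_X, ← algebraMap_eq, AlgHom.commutes,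
    sub_eq_zero] at h
  exact h

/-- `R → B` is injective. -/
theorem injective (hmdeg : ∀ i, 0 < mdeg i)
    (hτker : RingHom.ker (aeval τ : MvPolynomial (Fin n) R →ₐ[R] B) =
      Ideal.span (Set.range fun i => X i ^ mdeg i - C (r i))) :
    Function.Injective (algebraMap R B) := by
  rw [injective_iff_map_eq_zero]
  intro a ha
  let F := AlgebraicClosure (FractionRing R)
  have hroot : ∀ i, ∃ t : F, t ^ mdeg i = algebraMap R F (r i) := fun i =>
    IsAlgClosed.exists_pow_nat_eq _ (hmdeg i)
  choose t ht using hroot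
  have h1 : (C a : MvPolynomial (Fin n) R) ∈
      RingHom.ker (aeval τ : MvPolynomial (Fin n) R →ₐ[R] B) := by
    rw [RingHom.mem_ker, ← algebraMap_eq, AlgHom.commutes, ha]
  rw [hτker] at h1
  have h2 : Ideal.span (Set.range fun i => X i ^ mdeg i - C (r i)) ≤
      RingHom.ker (aeval t : MvPolynomial (Fin n) R →ₐ[R] F) := by
    rw [Ideal.span_le]
    rintro _ ⟨i, rfl⟩
    change aeval t (X i ^ mdeg i - C (r i)) = 0
    rw [map_sub, map_pow, aeval_X, ht, ← algebraMap_eq, AlgHom.commutes, sub_self]
  have h3 := h2 h1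
  rw [RingHom.mem_ker, ← algebraMap_eq, AlgHom.commutes] at h3
  have h4 : Function.Injective (algebraMap R F) := by
    rw [IsScalarTower.algebraMap_eq R (FractionRing R) F]
    exact (algebraMap (FractionRing R) F).injective.comp (IsFractionRing.injective R _)
  exact (map_eq_zero_iff _ h4).1 h3

omit [IsDomain R] in
/-- `L = Frac B` is finite over `K = Frac R`. -/
theorem finite (K L : Type u) [Field K] [Algebra R K] [Field L] [Algebra B L]
    [IsFractionRing B L] [Algebra K L] [Algebra R L] [IsScalarTower R K L] [IsScalarTower R B L]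
    (hτsurj : Function.Surjective (aeval τ : MvPolynomial (Fin n) R →ₐ[R] B))
    (hmdeg : ∀ i, 0 < mdeg i) (hτ : ∀ i, τ i ^ mdeg i = algebraMap R B (r i)) :
    Module.Finite K L := by
  let S : Set L := Set.range fun i => algebraMap B L (τ i)
  have hS : ∀ x ∈ S, IsIntegral K x := by
    rintro _ ⟨i, rfl⟩
    refine IsIntegral.of_pow (hmdeg i) ?_
    rw [← map_pow, hτ, ← IsScalarTower.algebraMap_apply, IsScalarTower.algebraMap_apply R K L]
    exact isIntegral_algebraMap
  have : Finite S := Set.finite_range _
  have h1 : FiniteDimensional K (IntermediateField.adjoin K S) :=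
    IntermediateField.finiteDimensional_adjoin hS
  have h2 : ∀ b : B, algebraMap B L b ∈ IntermediateField.adjoin K S := by
    intro b
    obtain ⟨p, rfl⟩ := hτsurj b
    induction p using MvPolynomial.induction_on with
    | C a =>
      rw [← algebraMap_eq, AlgHom.commutes, ← IsScalarTower.algebraMap_apply,
        IsScalarTower.algebraMap_apply R K L]
      exact (IntermediateField.adjoin K S).algebraMap_mem _
    | add p q hp hq =>
      rw [map_add, map_add]
      exact add_mem hp hq
    | mul_X p i hp =>
      rw [map_mul, map_mul, aeval_X]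
      exact mul_mem hp (IntermediateField.subset_adjoin _ _ ⟨i, rfl⟩)
  have h3 : IntermediateField.adjoin K S = ⊤ := by
    rw [eq_top_iff]
    intro x _
    obtain ⟨a, b, -, rfl⟩ := IsFractionRing.div_surjective (A := B) x
    exact div_mem (h2 a) (h2 b)
  rw [h3] at h1
  exact Module.Finite.equiv (IntermediateField.topEquiv (F := K) (E := L)).toLinearEquiv

omit [IsDomain R] in
/-- Members of a regular system of parameters are nonzero. -/
theorem ne_zero [IsLocalRing R] (hr : ∀ i, r i ∈ IsLocalRing.maximalIdeal R)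
    (hli : LinearIndependent (IsLocalRing.ResidueField R)
      (fun i => (IsLocalRing.maximalIdeal R).toCotangent ⟨r i, hr i⟩)) (i : Fin n) : r i ≠ 0 := by
  intro h
  refine hli.ne_zero i ?_
  have : (⟨r i, hr i⟩ : IsLocalRing.maximalIdeal R) = 0 := Subtype.ext h
  rw [this, map_zero]

end Groth.Agent.Neron.K86.KumRing
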