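import Groth.Prelude.Def_SGA7IX
import Groth.Prelude.Def_AbDual
import Mathlib.RingTheory.RegularLocalRing.Defs
import Mathlib.RingTheory.Henselian
import Mathlib.AlgebraicGeometry.Morphisms.Smooth
import Groth.Agent.Neron.K86.KumCore
import Groth.Agent.Neron.K86.KumRing

/-!
# S16171 modulo the Galois theorem of level two (S13753)
-/

set_option autoImplicit false
universe u

open CategoryTheory CategoryTheory.Limits AlgebraicGeometry MonObj

namespace Groth.Agent.Neron.K86.KumMain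

theorem main
    (R : Type u) [CommRing R] [IsDomain R] [IsLocalRing R]
    {n : ℕ} (r : Fin n → R) (hr : ∀ i, r i ∈ IsLocalRing.maximalIdeal R)
    (hli : LinearIndependent (IsLocalRing.ResidueField R)
      (fun i => (IsLocalRing.maximalIdeal R).toCotangent ⟨r i, hr i⟩))
    (𝒜 : Over (Spec (CommRingCat.of R))) [GrpObj 𝒜] [IsCommMonObj 𝒜] [LocallyOfFiniteType 𝒜.hom]
    (K Ω : Type u) [Field K] [Algebra R K] [IsFractionRing R K] [Field Ω] [Algebra K Ω] [IsSepClosure K Ω]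
    (A : Over (Spec (CommRingCat.of K))) [GrpObj A] [IsCommMonObj A]
    (e : Red.bc (Spec.map (CommRingCat.ofHom (algebraMap R K))) 𝒜 ≅ A) (he : IsMonHom e.hom)
    (l : ℕ) (hl : l.Prime) (hlp : (l : IsLocalRing.ResidueField R) ≠ 0)
    (lev : ∀ (σ : Ω ≃ₐ[K] Ω) (k : ℕ)
      (x : SGA7.Pts Ω (Red.bc (Spec.map (CommRingCat.ofHom (algebraMap R K))) 𝒜)),
      x ^ (l ^ k) = 1 → SGA7.dev σ (SGA7.dev σ x) = 1)
    (ρ : (Ω ≃ₐ[K] Ω) → AbDual.TateMod A l (SGA7.pt Ω) → AbDual.TateMod A l (SGA7.pt Ω))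
    (hρ : ∀ (τ : Ω ≃ₐ[K] Ω) (z : AbDual.TateMod A l (SGA7.pt Ω)) (k : ℕ),
      (AbDual.TateMod.component A l (SGA7.pt Ω) k (ρ τ z)).toMul =
        SGA7.galAct τ (AbDual.TateMod.component A l (SGA7.pt Ω) k z).toMul)
    (mdeg : Fin n → ℕ) (hmdeg : ∀ i, 0 < mdeg i)
    (B : Type u) [CommRing B] [IsDomain B] [Algebra R B] (τ : Fin n → B)
    (hτsurj : Function.Surjective (MvPolynomial.aeval τ : MvPolynomial (Fin n) R →ₐ[R] B))
    (hτker : RingHom.ker (MvPolynomial.aeval τ : MvPolynomial (Fin n) R →ₐ[R] B) =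
      Ideal.span (Set.range fun i => MvPolynomial.X i ^ mdeg i - MvPolynomial.C (r i)))
    (L Ω' : Type u) [Field L] [Algebra B L] [IsFractionRing B L] [Field Ω'] [Algebra L Ω'] [IsSepClosure L Ω']
    (A' : Over (Spec (CommRingCat.of L))) [GrpObj A'] [IsCommMonObj A']
    (e' : Red.bc (Spec.map (CommRingCat.ofHom (algebraMap B L)))
      (Red.bc (Spec.map (CommRingCat.ofHom (algebraMap R B))) 𝒜) ≅ A') (he' : IsMonHom e'.hom)
    (ρ' : (Ω' ≃ₐ[L] Ω') → AbDual.TateMod A' l (SGA7.pt Ω') → AbDual.TateMod A' l (SGA7.pt Ω'))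
    (hρ' : ∀ (τ' : Ω' ≃ₐ[L] Ω') (z : AbDual.TateMod A' l (SGA7.pt Ω')) (k : ℕ),
      (AbDual.TateMod.component A' l (SGA7.pt Ω') k (ρ' τ' z)).toMul =
        SGA7.galAct τ' (AbDual.TateMod.component A' l (SGA7.pt Ω') k z).toMul) :
    (n = 0 ∨ ∀ z : AbDual.TateMod A l (SGA7.pt Ω), ∃ w : Fin n → AbDual.TateMod A l (SGA7.pt Ω),
        (∀ (i : Fin n) (σ : Ω ≃ₐ[K] Ω),
          (∀ (k : ℕ) (y : Ω), y ^ (l ^ k) = algebraMap K Ω (algebraMap R K (r i)) → σ y = y) →
            ρ σ (w i) = w i) ∧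
        ∑ i, w i = z) ↔
    (n = 0 ∨ ∀ z : AbDual.TateMod A' l (SGA7.pt Ω'), ∃ w : Fin n → AbDual.TateMod A' l (SGA7.pt Ω'),
        (∀ (i : Fin n) (σ : Ω' ≃ₐ[L] Ω'),
          (∀ (k : ℕ) (y : Ω'), y ^ (l ^ k) = algebraMap L Ω' (algebraMap B L (τ i)) → σ y = y) →
            ρ' σ (w i) = w i) ∧
        ∑ i, w i = z) := by
  have hτ := KumRing.pow_eq hτker
  have hinj : Function.Injective (algebraMap R B) := KumRing.injective hmdeg hτker
  have hinjL : Function.Injective ((algebraMap B L).comp (algebraMap R B)) :=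
    (IsFractionRing.injective B L).comp hinj
  let iRΩ : Algebra R Ω := ((algebraMap K Ω).comp (algebraMap R K)).toAlgebra
  have tRKΩ : IsScalarTower R K Ω := IsScalarTower.of_algebraMap_eq' rfl
  let iKL : Algebra K L := (IsFractionRing.lift hinjL : K →+* L).toAlgebra
  let iRL : Algebra R L := ((algebraMap B L).comp (algebraMap R B)).toAlgebra
  have tRBL : IsScalarTower R B L := IsScalarTower.of_algebraMap_eq' rfl
  have tRKL : IsScalarTower R K L := IsScalarTower.of_algebraMap_eq fun x =>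
    (IsFractionRing.lift_algebraMap hinjL x).symm
  let iBΩ' : Algebra B Ω' := ((algebraMap L Ω').comp (algebraMap B L)).toAlgebra
  have tBLΩ' : IsScalarTower B L Ω' := IsScalarTower.of_algebraMap_eq' rfl
  let iRΩ' : Algebra R Ω' := ((algebraMap L Ω').comp (algebraMap R L)).toAlgebra
  have tRLΩ' : IsScalarTower R L Ω' := IsScalarTower.of_algebraMap_eq' rfl
  have tRBΩ' : IsScalarTower R B Ω' := IsScalarTower.of_algebraMap_eq' rfl
  let iKΩ' : Algebra K Ω' := ((algebraMap L Ω').comp (algebraMap K L)).toAlgebra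
  have tKLΩ' : IsScalarTower K L Ω' := IsScalarTower.of_algebraMap_eq' rfl
  have tRKΩ' : IsScalarTower R K Ω' := IsScalarTower.of_algebraMap_eq fun x => by
    change algebraMap L Ω' (algebraMap R L x) = algebraMap L Ω' (algebraMap K L (algebraMap R K x))
    rw [← IsScalarTower.algebraMap_apply R K L]
  have iΩ' : IsSepClosed Ω' := IsSepClosure.sep_closed L
  have isep : Algebra.IsSeparable K Ω := IsSepClosure.separable
  let emb : Ω →ₐ[K] Ω' := IsSepClosed.lift
  let iΩΩ' : Algebra Ω Ω' := emb.toRingHom.toAlgebra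
  have tKΩΩ' : IsScalarTower K Ω Ω' := IsScalarTower.of_algebraMap_eq fun x => (emb.commutes x).symm
  have hfin : Module.Finite K L := KumRing.finite K L hτsurj hmdeg hτ
  have hlK : (l : K) ≠ 0 := by
    have h1 : IsUnit (l : R) := by
      by_contra hcon
      apply hlp
      rw [← map_natCast (IsLocalRing.residue R)]
      exact (IsLocalRing.residue_eq_zero_iff _).2 hcon
    have h2 := h1.map (algebraMap R K)
    rw [map_natCast] at h2
    exact h2.ne_zero
  have hr0 : ∀ i, algebraMap R K (r i) ≠ 0 := fun i h =>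
    KumRing.ne_zero hr hli i ((map_eq_zero_iff _ (IsFractionRing.injective R K)).1 h)
  exact KumCore.star (R := R) (K := K) (Ω := Ω) (B := B) (L := L) (Ω' := Ω') 𝒜
    (fun i => algebraMap R K (r i)) (fun i => algebraMap B L (τ i)) mdeg hmdeg hr0
    (fun i => by
      rw [← map_pow, hτ, ← IsScalarTower.algebraMap_apply R K L]
      rfl)
    A e he l hl hlK lev ρ hρ A' e' he' ρ' hρ'

end Groth.Agent.Neron.K86.KumMain
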