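import Groth.Agent.Neron.K486.TorsSep
import Groth.Prelude.Def_AbDual

/-!
# Points with values in algebras over the base, Galois actions, Tate modules (towards S16171)

Small-closure versions of the dictionaries of `K486.TatePts` and `K486.GalPts`:

* `res`: functoriality of the points of `N` with values in `R`-algebras, `res_injective`;
* `toSp_galAct`, `toSp_dev`: the Galois action under `toSp`;
* `EV`, `EF`: points of a base change, points of the generic fibre of a base change;
* `exists_tors`: torsion points with values in an extension `Ω'` of the separably closed field `Ω`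
  are points with values in `Ω`;
* `tateEquiv`, `star_iff`: transport of Tate modules.
-/

set_option autoImplicit false
universe u

open CategoryTheory CategoryTheory.Limits AlgebraicGeometry MonObj
open MonoidalCategory CartesianMonoidalCategory
open Groth.Agent.Sga7.H729.Dict Groth.Agent.Sga67.TorsionLift

namespace Groth.Agent.Neron.K86.PtsRes

section Res

variable {R : Type u} [CommRing R] (N : Over (Spec (CommRingCat.of R))) [GrpObj N]
  {L L' L'' : Type u} [CommRing L] [CommRing L'] [CommRing L''] [Algebra R L] [Algebra R L'] [Algebra R L'']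

/-- Functoriality of points with values in `R`-algebras. -/
noncomputable def res (f : L →ₐ[R] L') : (sp R L ⟶ N) →* (sp R L' ⟶ N) := compHom (spMap f) N

lemma res_apply (f : L →ₐ[R] L') (x : sp R L ⟶ N) : res N f x = spMap f ≫ x := rfl

lemma res_comp (f : L →ₐ[R] L') (g : L' →ₐ[R] L'') (x : sp R L ⟶ N) :
    res N (g.comp f) x = res N g (res N f x) := by
  rw [res_apply, res_apply, res_apply, ← Category.assoc, spMap_comp]

lemma res_left (f : L →ₐ[R] L') (x : sp R L ⟶ N) :
    (res N f x).left = Spec.map (CommRingCat.ofHom (f : L →+* L')) ≫ x.left := rfl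

end Res

lemma epi_specMap (L L' : Type u) [Field L] [Field L'] (f : L →+* L') :
    Epi (Spec.map (CommRingCat.ofHom f)) := by
  have h3 : Flat (Spec.map (CommRingCat.ofHom f)) := by
    rw [HasRingHomProperty.Spec_iff (P := @Flat)]
    let _ : Algebra L L' := f.toAlgebra
    exact RingHom.flat_algebraMap_iff.2 inferInstance
  have h4 : Surjective (Spec.map (CommRingCat.ofHom f)) :=
    ⟨fun x => ⟨IsLocalRing.closedPoint L', Subsingleton.elim (α := PrimeSpectrum L) _ _⟩⟩
  exact Flat.epi_of_flat_of_surjective _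

lemma res_injective {R : Type u} [CommRing R] (N : Over (Spec (CommRingCat.of R))) [GrpObj N]
    {L L' : Type u} [Field L] [Field L'] [Algebra R L] [Algebra R L'] (f : L →ₐ[R] L') :
    Function.Injective (res N f) := by
  intro a b hab
  have := epi_specMap L L' (f : L →+* L')
  ext1
  rw [← cancel_epi (Spec.map (CommRingCat.ofHom (f : L →+* L')))]
  exact congrArg (fun q => q.left) hab

section Pdev

variable {R : Type u} [CommRing R] (N : Over (Spec (CommRingCat.of R))) [GrpObj N]

variable (K Ω : Type u) [Field K] [Algebra R K] [Field Ω] [Algebra K Ω] [Algebra R Ω] [IsScalarTower R K Ω]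

/-- The `R`-algebra endomorphism of `Ω` underlying an automorphism over `K`. -/
abbrev gal (R : Type u) [CommRing R] {K Ω : Type u} [Field K] [Algebra R K] [Field Ω] [Algebra K Ω]
    [Algebra R Ω] [IsScalarTower R K Ω] (σ : Ω ≃ₐ[K] Ω) : Ω →ₐ[R] Ω :=
  (σ : Ω →ₐ[K] Ω).restrictScalars R

lemma toSp_galAct (σ : Ω ≃ₐ[K] Ω) (x : SGA7.Pts Ω ((SGA7.genFib R K).obj N)) :
    toSp R K Ω N (SGA7.galAct σ x) = res N (gal R σ) (toSp R K Ω N x) := by
  ext1
  rw [toSp_left, res_left, toSp_left]
  exact Category.assoc _ _ _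

lemma toSp_dev (σ : Ω ≃ₐ[K] Ω) (x : SGA7.Pts Ω (Red.bc (Spec.map (CommRingCat.ofHom (algebraMap R K))) N)) :
    toSp R K Ω N (SGA7.dev σ x) = res N (gal R σ) (toSp R K Ω N x) * (toSp R K Ω N x)⁻¹ := by
  rw [← toSp_galAct, ← map_inv]
  exact map_mul (toSp R K Ω N) _ _

end Pdev

section VF

variable {R V F Φ Φ' : Type u} [CommRing R] [CommRing V] [Field F] [CommRing Φ] [CommRing Φ'] [Algebra R V]
  [Algebra R Φ] [Algebra V Φ] [IsScalarTower R V Φ] [Algebra R Φ'] [Algebra V Φ'] [IsScalarTower R V Φ']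
  (N : Over (Spec (CommRingCat.of R))) [GrpObj N]

variable (R V Φ) in
/-- `Spec Φ` over `Spec V` over `Spec R`. -/
noncomputable def j₀ : sp R Φ ⟶ (Over.map (Spec.map (CommRingCat.ofHom (algebraMap R V)))).obj (sp V Φ) :=
  Over.homMk (𝟙 _) (by
    change 𝟙 _ ≫ Spec.map (CommRingCat.ofHom (algebraMap V Φ)) ≫ Spec.map (CommRingCat.ofHom (algebraMap R V)) =
      Spec.map (CommRingCat.ofHom (algebraMap R Φ))
    rw [Category.id_comp, ← Spec.map_comp, ← CommRingCat.ofHom_comp, ← IsScalarTower.algebraMap_eq])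

variable (R V Φ) in
/-- its inverse. -/
noncomputable def j₁ : (Over.map (Spec.map (CommRingCat.ofHom (algebraMap R V)))).obj (sp V Φ) ⟶ sp R Φ :=
  Over.homMk (𝟙 _) (by
    change 𝟙 _ ≫ Spec.map (CommRingCat.ofHom (algebraMap R Φ)) =
      Spec.map (CommRingCat.ofHom (algebraMap V Φ)) ≫ Spec.map (CommRingCat.ofHom (algebraMap R V))
    rw [Category.id_comp, ← Spec.map_comp, ← CommRingCat.ofHom_comp, ← IsScalarTower.algebraMap_eq])

variable (R V Φ) in
/-- `Φ`-points of the base change to `V` are `Φ`-points. -/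
noncomputable def EV : (sp V Φ ⟶ Red.bc (Spec.map (CommRingCat.ofHom (algebraMap R V))) N) ≃* (sp R Φ ⟶ N) :=
  (bcPts (Spec.map (CommRingCat.ofHom (algebraMap R V))) N (sp V Φ)).trans
    { toFun := fun x => j₀ R V Φ ≫ x
      invFun := fun x => j₁ R V Φ ≫ x
      left_inv := fun x => by ext1; exact (Category.id_comp _).trans (Category.id_comp _)
      right_inv := fun x => by ext1; exact (Category.id_comp _).trans (Category.id_comp _)
      map_mul' := fun x y => MonObj.comp_mul _ _ _ }

lemma EV_left (x : sp V Φ ⟶ Red.bc (Spec.map (CommRingCat.ofHom (algebraMap R V))) N) :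
    (EV R V Φ N x).left = x.left ≫ pullback.fst N.hom (Spec.map (CommRingCat.ofHom (algebraMap R V))) := by
  change (𝟙 _ ≫ (bcPts _ N _ x).left) = _
  rw [bcPts_left, Category.id_comp]

lemma EV_res (f : Φ →ₐ[V] Φ') (x : sp V Φ ⟶ Red.bc (Spec.map (CommRingCat.ofHom (algebraMap R V))) N) :
    EV R V Φ' N (res _ f x) = res N (f.restrictScalars R) (EV R V Φ N x) := by
  ext1
  rw [EV_left, res_left, res_left, EV_left]
  exact Category.assoc _ _ _

end VF

section EFsec

variable {R V F Φ : Type u} [CommRing R] [CommRing V] [Field F] [Field Φ] [Algebra R V] [Algebra V F]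
  [Algebra R F] [Algebra F Φ] [Algebra R Φ] [IsScalarTower R F Φ]
  [Algebra V Φ] [IsScalarTower V F Φ] [IsScalarTower R V Φ]
  (N : Over (Spec (CommRingCat.of R))) [GrpObj N]

variable (R V F Φ) in
/-- `Φ`-points of the generic fibre of the base change to `V`. -/
noncomputable def EF : SGA7.Pts (K := F) Φ ((SGA7.genFib V F).obj
    (Red.bc (Spec.map (CommRingCat.ofHom (algebraMap R V))) N)) ≃* (sp R Φ ⟶ N) :=
  (toSp V F Φ (Red.bc (Spec.map (CommRingCat.ofHom (algebraMap R V))) N)).trans (EV R V Φ N)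

lemma EF_galAct (σ : Φ ≃ₐ[F] Φ) (x : SGA7.Pts (K := F) Φ ((SGA7.genFib V F).obj
    (Red.bc (Spec.map (CommRingCat.ofHom (algebraMap R V))) N))) :
    EF R V F Φ N (SGA7.galAct σ x) = res N (gal R σ) (EF R V F Φ N x) := by
  change EV R V Φ N (toSp V F Φ _ (SGA7.galAct σ x)) = _
  rw [toSp_galAct, EV_res]
  rfl

end EFsec

section Tors

variable {R K Ω Ω' : Type u} [CommRing R] [Field K] [Field Ω] [Field Ω'] [Algebra R K] [Algebra K Ω]
  [Algebra R Ω] [IsScalarTower R K Ω] [Algebra K Ω'] [Algebra R Ω'] [IsScalarTower R K Ω']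
  (N : Over (Spec (CommRingCat.of R))) [GrpObj N]

/-- Torsion points with values in an extension of a separably closed field are defined over it. -/
theorem exists_tors [IsSepClosed Ω] [IsCommMonObj N] [LocallyOfFiniteType N.hom] (jj : Ω →ₐ[K] Ω')
    (n : ℕ) (hn : (n : K) ≠ 0) (z : sp R Ω' ⟶ N) (hz : z ^ n = 1) :
    ∃ w : sp R Ω ⟶ N, res N (jj.restrictScalars R) w = z := by
  let _ : Algebra Ω Ω' := jj.toRingHom.toAlgebra
  have : IsScalarTower K Ω Ω' := IsScalarTower.of_algebraMap_eq fun x => (jj.commutes x).symm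
  have hG : LocallyOfFiniteType (Red.bc (Spec.map (CommRingCat.ofHom (algebraMap R K))) N).hom :=
    inferInstanceAs (LocallyOfFiniteType (pullback.snd N.hom _))
  obtain ⟨w, -, hw⟩ := K486.TorsSep.exists_of_torsion K Ω Ω'
    (Red.bc (Spec.map (CommRingCat.ofHom (algebraMap R K))) N) n hn ((EV R K Ω' N).symm z)
    (by rw [← map_pow, hz, map_one])
  refine ⟨EV R K Ω N w, ?_⟩
  have h1 : IsScalarTower.toAlgHom K Ω Ω' = jj := by
    ext x
    rfl
  rw [h1] at hw
  rw [← EV_res, res_apply, hw, MulEquiv.apply_symm_apply]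

end Tors

section Fix

variable {R K Ω L Ω' : Type u} [CommRing R] [Field K] [Field Ω] [Field Ω'] [Field L] [Algebra R K]
  [Algebra K Ω] [Algebra R Ω] [IsScalarTower R K Ω] [Algebra K Ω'] [Algebra R Ω'] [IsScalarTower R K Ω']
  [Algebra L Ω'] [Algebra R L] [IsScalarTower R L Ω']
  (N : Over (Spec (CommRingCat.of R))) [GrpObj N]

/-- Fixed points, on coordinates. -/
theorem exists_set (y : sp R Ω ⟶ N) (jj : Ω →ₐ[R] Ω') : ∃ S : Set Ω,
    (∀ f : Ω →ₐ[R] Ω, res N f y = y ↔ ∀ x ∈ S, f x = x) ∧
    (∀ f : Ω' →ₐ[R] Ω', res N f (res N jj y) = res N jj y ↔ ∀ x ∈ S, f (jj x) = jj x) := by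
  obtain ⟨O, _, _, j, hj, hp⟩ := exists_chart N (y.left (IsLocalRing.closedPoint Ω))
  obtain ⟨f, hf⟩ := exists_factor (T := Ω) N j y hp
  refine ⟨Set.range f, fun g => ⟨?_, ?_⟩, fun g => ⟨?_, ?_⟩⟩
  · rintro h _ ⟨o, rfl⟩
    rw [res_apply, hf, ← Category.assoc, spMap_comp] at h
    exact congrArg (fun g => g o) (factor_injective N j h)
  · intro h
    rw [res_apply, hf, ← Category.assoc, spMap_comp]
    congr 2
    ext o
    exact h _ ⟨o, rfl⟩
  · rintro h _ ⟨o, rfl⟩
    rw [← res_comp, res_apply, res_apply, hf, ← Category.assoc, ← Category.assoc, spMap_comp,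
      spMap_comp] at h
    exact congrArg (fun g => g o) (factor_injective N j h)
  · intro h
    rw [← res_comp, res_apply, res_apply, hf, ← Category.assoc, ← Category.assoc, spMap_comp,
      spMap_comp]
    congr 2
    ext o
    exact h _ ⟨o, rfl⟩

end Fix

section Abs

/-- A compatible sequence of `l`-power torsion elements all killed by the same integer is
trivial. -/
theorem eq_one_of_pow {M : Type*} [CommGroup M] {l : ℕ} (hl : l.Prime) (δ : ℕ → M)
    (h1 : ∀ k, δ k ^ (l ^ k) = 1) (h2 : ∀ k, δ (k + 1) ^ l = δ k) {m : ℕ} (hm : 0 < m)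
    (h : ∀ k, δ k ^ m = 1) (k : ℕ) : δ k = 1 := by
  obtain ⟨a, m', hlm', hmm'⟩ := Nat.exists_eq_pow_mul_and_not_dvd hm.ne' l hl.ne_one
  have h3 : ∀ j, δ (k + j) ^ (l ^ j) = δ k := by
    intro j
    induction j with
    | zero => simp
    | succ j ih => rw [← Nat.add_assoc, pow_succ', pow_mul, h2, ih]
  rw [← h3 a]
  have h4 : orderOf (δ (k + a)) ∣ l ^ (k + a) := orderOf_dvd_of_pow_eq_one (h1 _)
  have h5 : orderOf (δ (k + a)) ∣ m := orderOf_dvd_of_pow_eq_one (h _)
  rw [← orderOf_dvd_iff_pow_eq_one]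
  have h6 : Nat.Coprime (orderOf (δ (k + a))) m' :=
    Nat.Coprime.of_dvd_left h4 (Nat.Coprime.pow_left _ ((Nat.Prime.coprime_iff_not_dvd hl).2 hlm'))
  exact h6.dvd_of_dvd_mul_right (hmm' ▸ h5)

/-- Iterating an endomorphism of level two. -/
theorem iterate_level_two {M : Type*} [CommGroup M] (s : M →* M) (y : M)
    (h : s (s y * y⁻¹) = s y * y⁻¹) (m : ℕ) : s^[m] y = (s y * y⁻¹) ^ m * y := by
  induction m with
  | zero => simp
  | succ m ih =>
    rw [Function.iterate_succ_apply', ih, map_mul, map_pow, h, pow_succ,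
      _root_.mul_assoc, inv_mul_cancel_right]

variable {S S' : Scheme.{u}} {A : Over S} [GrpObj A] [IsCommMonObj A] {A' : Over S'} [GrpObj A']
  [IsCommMonObj A'] {T : Over S} {T' : Over S'}

/-- The map of Tate modules induced by a map of groups of points. -/
noncomputable def tateHom (l : ℕ) (g : (T ⟶ A) →* (T' ⟶ A')) : AbDual.TateMod A l T →+ AbDual.TateMod A' l T' where
  toFun x := ⟨fun n => Additive.ofMul (g ((x : ℕ → Additive (T ⟶ A)) n).toMul),
    ⟨fun n => by
      have h := congrArg (fun a => Additive.ofMul (g a.toMul)) (x.torsion n)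
      simpa using h,
     fun n => by
      have h := congrArg (fun a => Additive.ofMul (g a.toMul)) (x.compat n)
      simpa using h⟩⟩
  map_zero' := AbDual.TateMod.ext fun n => by
    change Additive.ofMul (g 1) = 0
    rw [map_one]
    rfl
  map_add' x y := AbDual.TateMod.ext fun n => by
    change Additive.ofMul (g (_ * _)) = _
    rw [map_mul]
    rfl

theorem component_tateHom (l : ℕ) (g : (T ⟶ A) →* (T' ⟶ A')) (x : AbDual.TateMod A l T) (n : ℕ) :
    (AbDual.TateMod.component A' l T' n (tateHom l g x)).toMul =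
      g (AbDual.TateMod.component A l T n x).toMul := rfl

theorem tateHom_bijective (l : ℕ) (g : (T ⟶ A) →* (T' ⟶ A')) (hg : Function.Injective g)
    (hg2 : ∀ (k : ℕ) (y : T' ⟶ A'), y ^ (l ^ k) = 1 → ∃ x, g x = y) :
    Function.Bijective (tateHom l g) := by
  constructor
  · intro x y hxy
    refine AbDual.TateMod.ext fun n => ?_
    have h := congrArg (fun z => (AbDual.TateMod.component A' l T' n z).toMul) hxy
    simp only [component_tateHom] at h
    exact hg h
  · intro y
    have h1 : ∀ n, ∃ x, g x = (AbDual.TateMod.component A' l T' n y).toMul := fun n =>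
      hg2 n _ (AbDual.TateMod.component_mem y n)
    choose x hx using h1
    refine ⟨⟨fun n => Additive.ofMul (x n), ⟨fun n => ?_, fun n => ?_⟩⟩, ?_⟩
    · change x n ^ (l ^ n) = 1
      apply hg
      rw [map_pow, hx, map_one]
      exact AbDual.TateMod.component_mem y n
    · change x (n + 1) ^ l = x n
      apply hg
      rw [map_pow, hx, hx]
      exact y.compat n
    · refine AbDual.TateMod.ext fun n => ?_
      change Additive.ofMul (g (x n)) = _
      rw [hx]
      rfl

/-- Transport of the condition `⋆`. -/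
theorem star_iff {T T' : Type*} [AddCommMonoid T] [AddCommMonoid T'] (φ : T ≃+ T') {n : ℕ}
    (p : Fin n → T → Prop) (p' : Fin n → T' → Prop) (h : ∀ i w, p i w ↔ p' i (φ w)) :
    (n = 0 ∨ ∀ z : T, ∃ w : Fin n → T, (∀ i, p i (w i)) ∧ ∑ i, w i = z) ↔
    (n = 0 ∨ ∀ z : T', ∃ w : Fin n → T', (∀ i, p' i (w i)) ∧ ∑ i, w i = z) := by
  refine or_congr Iff.rfl ⟨fun H z => ?_, fun H z => ?_⟩
  · obtain ⟨w, hw, hw2⟩ := H (φ.symm z)
    refine ⟨fun i => φ (w i), fun i => (h i _).1 (hw i), ?_⟩
    rw [← map_sum, hw2, AddEquiv.apply_symm_apply]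
  · obtain ⟨w, hw, hw2⟩ := H (φ z)
    refine ⟨fun i => φ.symm (w i), fun i => (h i _).2 (by
      rw [AddEquiv.apply_symm_apply]
      exact hw i), ?_⟩
    rw [← map_sum, hw2, AddEquiv.symm_apply_apply]

end Abs

end Groth.Agent.Neron.K86.PtsRes
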